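/-
Transvection centres in `SU_3`: two root groups of a line and one off it give everything.
-/
import Cfsg.Agent.Lib.MaxSub.SubspaceMaximalUnitary
import Cfsg.Agent.Lib.MaxSub.SLThree.Unitary

set_option autoImplicit false
set_option maxHeartbeats 400000
set_option linter.unusedSectionVars false

namespace CfsgLib.MaxSub.SU3Max

open Matrix Module Cfsg Cfsg.Geo CfsgLib.UnitaryTransvection
open CfsgLib.Aschbacher (perp IsRefl isRefl_of_unitary)

variable {F : Type*} [Field F] [Fintype F] {q : ℕ} {hF : Fintype.card F = q ^ 2}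

local notation "V" => Fin 3 → F
local notation "h" => Cfsg.hermForm 3 F q
local notation "σ" => frob hF
local notation "Mn" => Matrix (Fin 3) (Fin 3) F
local notation "G" => Cfsg.GU 3 F q ⊓ specialLinear (Fin 3) F

section
variable (hF)
include hF

theorem h_zero_left (v : V) : h 0 v = 0 := by
  rw [← zero_smul F v, h_smul_left, zero_mul]

theorem h_eq_zero_swap {u v : V} : h u v = 0 ↔ h v u = 0 := by
  constructor <;> intro e <;> rw [← h_swap hF, e, map_zero]

theorem h_ne_zero_swap {u v : V} (e : h u v ≠ 0) : h v u ≠ 0 := fun e' => e ((h_eq_zero_swap hF).2 e')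

theorem ne_zero_of_h_ne {u v : V} (e : h u v ≠ 0) : u ≠ 0 := fun e' => e (by rw [e', h_zero_left hF])

/-- `SU_3(q)` is generated by its transvections for `q ≥ 3`. -/
theorem top_of_ctr (hq : 3 ≤ q) {K : Subgroup (GL (Fin 3) F)}
    (hK : ∀ v : V, h v v = 0 → Ctr hF K v) : G ≤ K := by
  intro g hg
  let φ : Cfsg.SU 3 F q →* GL (Fin 3) F :=
    Matrix.SpecialLinearGroup.toGL.comp (Cfsg.SU 3 F q).subtype
  have hd : (g : Mn).det = 1 := by simpa using congrArg Units.val (MonoidHom.mem_ker.1 hg.2)
  have hle : Subgroup.closure (UnitarySimple.TSet (F := F) (q := q) (n := 3)) ≤ K.comap φ := by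
    refine (Subgroup.closure_le _).2 ?_
    rintro A ⟨v, c, hv, hA⟩
    show φ A ∈ K
    by_cases hv0 : v = 0
    · have : φ A = 1 := Units.ext (by
        show UnitarySimple.mat A = 1
        refine Matrix.ext_of_mulVec_single fun i => ?_
        rw [hA, hv0, UnitarySimple.tmat_zero, Matrix.one_mulVec])
      rw [this]; exact one_mem _
    · refine hK v hv (φ A) c (UnitarySimple.skew_of_tmat hF hv hv0 fun a b => ?_) hA
      rw [← hA]; exact UnitarySimple.su_h A a b
  have h2 : φ ⟨⟨(g : Mn), hd⟩, fun u v => hg.1 u v⟩ ∈ K :=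
    hle (by rw [UnitarySimple.generated hF le_rfl (by omega)]; exact Subgroup.mem_top _)
  convert h2 using 1
  exact Units.ext rfl

theorem h_combo (x y : F) (a b : V) :
    h (x • a + y • b) (x • a + y • b) =
      x * σ x * h a a + x * σ y * h a b + y * σ x * h b a + y * σ y * h b b := by
  rw [h_add_left, h_add_right hF, h_add_right hF, h_smul_left, h_smul_left, h_smul_left, h_smul_left,
    h_smul_right hF, h_smul_right hF, h_smul_right hF, h_smul_right hF]
  ring

/-- The transvection with isotropic centre, as a group element. -/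
theorem exists_tv {v : V} (hv : h v v = 0) {c : F} (hc : c + σ c = 0) :
    ∃ g : GL (Fin 3) F, g ∈ G ∧ (g : Mn) = Cfsg.unitaryTransvection 3 q v c :=
  ⟨sg _ (show (Cfsg.unitaryTransvection 3 q v c).det = 1 by rw [det_tmat, hv, mul_zero, add_zero]),
    sg_mem (fun a b => tmat_isometry hF
      (show Good hF v c by rw [Good, hv, mul_zero, add_zero, hc]) a b) _, rfl⟩

end

variable {K : Subgroup (GL (Fin 3) F)}

/-- A centre moved by the transvections of another one. -/
theorem _root_.CfsgLib.MaxSub.Ctr.move {a z : V} (ha : h a a = 0) (hA : Ctr hF K a) {c : F}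
    (hc : c + σ c = 0) (hz : Ctr hF K z) : Ctr hF K (z + (c * h z a) • a) := by
  obtain ⟨g, hgG, hg⟩ := exists_tv hF ha hc
  have := hz.conj (hA g c hc hg) hgG
  rwa [hg, tmat_mulVec] at this

/-- Two centres give all centres of their line. -/
theorem ctr_line {a b : V} (ha : h a a = 0) (hb : h b b = 0) (hab : h a b ≠ 0) (hA : Ctr hF K a)
    (hB : Ctr hF K b) (x y : F) (hv : h (x • a + y • b) (x • a + y • b) = 0) :
    Ctr hF K (x • a + y • b) := by
  by_cases hy : y = 0
  · rw [hy, zero_smul, add_zero]; exact hA.smul x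
  rw [h_combo hF, ha, hb] at hv
  have hba : h b a ≠ 0 := h_ne_zero_swap hF hab
  have hc : x / (y * h b a) + σ (x / (y * h b a)) = 0 := by
    rw [map_div₀, map_mul, h_swap hF b a]
    have : σ y ≠ 0 := (map_ne_zero _).2 hy
    field_simp
    linear_combination hv
  have h1 := (hA.move ha hc hB).smul y
  rwa [smul_add, smul_smul, add_comm,
    show y * (x / (y * h b a) * h b a) = x by field_simp] at h1

/-- The vectors of a given non-zero norm of a line are linked by its transvections. -/
theorem ctr_norm {a a' z : V} (ha : h a a = 0) (ha' : h a' a' = 0) (haa : h a a' = 1)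
    (hA : Ctr hF K a) (hA' : Ctr hF K a') (hza : h z a = 0) (hza' : h z a' = 0) {x y x' y' : F}
    (hν : x * σ y + y * σ x ≠ 0) (heq : x' * σ y' + y' * σ x' = x * σ y + y * σ x)
    (hS : Ctr hF K (z + (x • a + y • a'))) : Ctr hF K (z + (x' • a + y' • a')) := by
  have hba : h a' a = 1 := by rw [← h_swap hF, haa, map_one]
  -- a change of the first coordinate
  have hA1 : ∀ x y x', y ≠ 0 → x' * σ y + y * σ x' = x * σ y + y * σ x →
      Ctr hF K (z + (x • a + y • a')) → Ctr hF K (z + (x' • a + y • a')) := by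
    intro x y x' hy he hS
    have hc : (x' - x) / y + σ ((x' - x) / y) = 0 := by
      rw [map_div₀, map_sub]
      have : σ y ≠ 0 := (map_ne_zero _).2 hy
      field_simp
      linear_combination he
    have h1 := hA.move ha hc hS
    have e : h (z + (x • a + y • a')) a = y := by
      rw [h_add_left, h_add_left, h_smul_left, h_smul_left, hza, ha, hba]; ring
    rw [e, div_mul_cancel₀ _ hy] at h1
    convert h1 using 1
    module
  have hA2 : ∀ x y y', x ≠ 0 → x * σ y' + y' * σ x = x * σ y + y * σ x →
      Ctr hF K (z + (x • a + y • a')) → Ctr hF K (z + (x • a + y' • a')) := by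
    intro x y y' hx he hS
    have hc : (y' - y) / x + σ ((y' - y) / x) = 0 := by
      rw [map_div₀, map_sub]
      have : σ x ≠ 0 := (map_ne_zero _).2 hx
      field_simp
      linear_combination he
    have h1 := hA'.move ha' hc hS
    have e : h (z + (x • a + y • a')) a' = x := by
      rw [h_add_left, h_add_left, h_smul_left, h_smul_left, hza', haa, ha']; ring
    rw [e, div_mul_cancel₀ _ hx] at h1
    convert h1 using 1
    module
  set ν := x * σ y + y * σ x with hνdef
  have hσν : σ ν = ν := by rw [hνdef, map_add, map_mul, map_mul, frob_frob hF, frob_frob hF]; ring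
  -- between independent second coordinates
  have key : ∀ x y x' y', x * σ y + y * σ x = ν → x' * σ y' + y' * σ x' = ν →
      y' * σ y - y * σ y' ≠ 0 → Ctr hF K (z + (x • a + y • a')) →
      Ctr hF K (z + (x' • a + y' • a')) := by
    intro x y x' y' e e' hD hS
    set D := y' * σ y - y * σ y' with hDdef
    set x1 := ν * (y' - y) / D with hx1
    have hσD : σ D = -D := by rw [hDdef, map_sub, map_mul, map_mul, frob_frob hF, frob_frob hF]; ring
    have hy : y ≠ 0 := fun h0 => hD (by rw [hDdef, h0, map_zero]; ring)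
    have hy' : y' ≠ 0 := fun h0 => hD (by rw [hDdef, h0, map_zero]; ring)
    have e1 : x1 * σ y + y * σ x1 = ν := by
      rw [hx1, map_div₀, map_mul, map_sub, hσν, hσD]
      field_simp
      rw [hDdef]; ring
    have e2 : x1 * σ y' + y' * σ x1 = ν := by
      rw [hx1, map_div₀, map_mul, map_sub, hσν, hσD]
      field_simp
      rw [hDdef]; ring
    have hx1 : x1 ≠ 0 := fun h0 => hν (by rw [← e1, h0, map_zero]; ring)
    exact hA1 x1 y' x' hy' (e'.trans e2.symm) (hA2 x1 y y' hx1 (e2.trans e1.symm)
      (hA1 x y x1 hy (e1.trans e.symm) hS))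
  by_cases hD : y' * σ y - y * σ y' = 0
  · obtain ⟨t, ht⟩ : ∃ t : F, σ t ≠ t := by
      by_contra hc
      push Not at hc
      exact frob_ne_id hF (RingHom.ext hc)
    have hy : y ≠ 0 := fun h0 => hν (by rw [hνdef, h0, map_zero]; ring)
    have hy' : y' ≠ 0 := fun h0 => hν (by rw [← heq, h0, map_zero]; ring)
    have hσy : σ y ≠ 0 := (map_ne_zero _).2 hy
    have hσy' : σ y' ≠ 0 := (map_ne_zero _).2 hy'
    have hD1 : (t * y) * σ y - y * σ (t * y) ≠ 0 := by
      rw [map_mul]
      intro h0
      exact ht (mul_right_cancel₀ (mul_ne_zero hy hσy) (by linear_combination -h0))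
    have hD2 : y' * σ (t * y) - (t * y) * σ y' ≠ 0 := by
      rw [map_mul]
      intro h0
      exact ht (mul_right_cancel₀ (mul_ne_zero hy hσy') (by linear_combination h0 - σ t * hD))
    obtain ⟨k, hk⟩ := WittExtension.exists_trace (frob_ne_id hF) (frob_frob hF) (c := ν) hσν
    have hty : σ (t * y) ≠ 0 := by
      rw [Ne, map_eq_zero, mul_eq_zero]
      rintro (h0 | h0)
      · exact ht (by rw [h0, map_zero])
      · exact hy h0
    have e0 : k / σ (t * y) * σ (t * y) + t * y * σ (k / σ (t * y)) = ν := by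
      rw [div_mul_cancel₀ _ hty, map_div₀, frob_frob hF, ← hk]
      have : t * y ≠ 0 := fun h0 => hty (by rw [h0, map_zero])
      have ht0 : t ≠ 0 := (mul_ne_zero_iff.1 this).1
      field_simp
      ring
    exact key _ _ x' y' e0 heq hD2 (key x y _ _ rfl e0 hD1 hS)
  · exact key x y x' y' rfl heq hD hS

include hF in
/-- The coordinates with respect to a hyperbolic pair and a vector perpendicular to both. -/
theorem expand {c a a' : V} (hc : h c c ≠ 0) (ha : h a a = 0) (ha' : h a' a' = 0) (haa : h a a' = 1)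
    (hac : h a c = 0) (ha'c : h a' c = 0) (v : V) :
    v = (h v c / h c c) • c + (h v a' • a + h v a • a') := by
  have hba : h a' a = 1 := by rw [← h_swap hF, haa, map_one]
  have hca : h c a = 0 := (h_eq_zero_swap hF).1 hac
  have hca' : h c a' = 0 := (h_eq_zero_swap hF).1 ha'c
  have hli : LinearIndependent F ![c, a, a'] := by
    rw [Fintype.linearIndependent_iff]
    intro g hg
    simp only [Fin.sum_univ_three, Matrix.cons_val_zero, Matrix.cons_val_one,
      Matrix.cons_val_two, Matrix.head_cons, Matrix.tail_cons] at hg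
    have h1 := congrArg (fun z => h z c) hg
    have h2 := congrArg (fun z => h z a) hg
    have h3 := congrArg (fun z => h z a') hg
    simp only [h_add_left, h_smul_left, h_zero_left hF, ha, ha', haa, hba, hac, ha'c, hca, hca',
      mul_zero, add_zero, zero_add, mul_one] at h1 h2 h3
    intro i; fin_cases i
    · exact (mul_eq_zero.1 h1).resolve_right hc
    · exact h3
    · exact h2
  have hv : v ∈ Submodule.span F (Set.range ![c, a, a']) := by
    rw [hli.span_eq_top_of_card_eq_finrank (by simp)]; exact Submodule.mem_top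
  obtain ⟨t, ht⟩ := Submodule.mem_span_range_iff_exists_fun F |>.1 hv
  simp only [Fin.sum_univ_three, Matrix.cons_val_zero, Matrix.cons_val_one,
    Matrix.cons_val_two, Matrix.head_cons, Matrix.tail_cons] at ht
  subst ht
  simp only [h_add_left, h_smul_left, ha, ha', haa, hba, hac, ha'c, hca, hca', mul_zero, add_zero,
    zero_add, mul_one, mul_div_assoc, div_self hc]
  module

/-- **Two centres of a non-degenerate line and one off it give `SU_3`.** -/
theorem top_of_line (hq : 3 ≤ q) {c a a' x0 : V} (hc : h c c ≠ 0) (ha : h a a = 0)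
    (ha' : h a' a' = 0) (haa : h a a' ≠ 0) (hac : h a c = 0) (ha'c : h a' c = 0)
    (hA : Ctr hF K a) (hA' : Ctr hF K a') (hx : h x0 x0 = 0) (hxc : h x0 c ≠ 0)
    (hX : Ctr hF K x0) : G ≤ K := by
  wlog h1 : h a a' = 1 generalizing a
  · refine this (a := (h a a')⁻¹ • a) ?_ ?_ ?_ (hA.smul _) ?_
    · rw [h_smul_left, h_smul_right hF, ha, mul_zero, mul_zero]
    · rw [h_smul_left, inv_mul_cancel₀ haa]; exact one_ne_zero
    · rw [h_smul_left, hac, mul_zero]
    · rw [h_smul_left, inv_mul_cancel₀ haa]
  have hba : h a' a = 1 := by rw [← h_swap hF, h1, map_one]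
  have hca : h c a = 0 := (h_eq_zero_swap hF).1 hac
  have hca' : h c a' = 0 := (h_eq_zero_swap hF).1 ha'c
  refine top_of_ctr hF hq fun v hv => ?_
  by_cases hvc : h v c = 0
  · rw [expand (hF := hF) hc ha ha' h1 hac ha'c v, hvc, zero_div, zero_smul, zero_add] at hv ⊢
    exact ctr_line ha ha' haa hA hA' _ _ hv
  obtain ⟨w, hw0, hw⟩ : ∃ w, w ≠ 0 ∧ h (w • v) c = h x0 c :=
    ⟨h x0 c / h v c, div_ne_zero hxc hvc, by rw [h_smul_left, div_mul_cancel₀ _ hvc]⟩
  refine Ctr.of_smul hw0 ?_
  have hnorm : ∀ u : V, h u u = 0 →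
      h u a' * σ (h u a) + h u a * σ (h u a') = -(h u c * σ (h u c) / h c c) := by
    intro u hu
    have hσc : σ (h c c) = h c c := h_swap hF c c
    have e := expand (hF := hF) hc ha ha' h1 hac ha'c u
    set α := h u c
    set β := h u a'
    set γ := h u a
    rw [e] at hu
    simp only [h_add_left, h_add_right hF, h_smul_left, h_smul_right hF, ha, ha', h1, hba, hac, ha'c,
      hca, hca', mul_zero, add_zero, zero_add, mul_one, map_div₀, hσc] at hu
    field_simp at hu
    field_simp
    linear_combination hu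
  rw [expand (hF := hF) hc ha ha' h1 hac ha'c (w • v), hw]
  refine ctr_norm ha ha' h1 hA hA' (x := h x0 a') (y := h x0 a) ?_ ?_ ?_ ?_ ?_
  · rw [h_smul_left, hca, mul_zero]
  · rw [h_smul_left, hca', mul_zero]
  · rw [hnorm x0 hx]
    exact neg_ne_zero.2 (div_ne_zero (mul_ne_zero hxc ((map_ne_zero _).2 hxc)) hc)
  · rw [hnorm x0 hx, hnorm (w • v) (by rw [h_smul_left, h_smul_right hF, hv, mul_zero, mul_zero]), hw]
  · rwa [← expand (hF := hF) hc ha ha' h1 hac ha'c x0]

include hF in
/-- A non-degenerate line has a hyperbolic pair. -/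
theorem exists_pair {c : V} (hc : h c c ≠ 0) :
    ∃ a a' : V, h a a = 0 ∧ h a' a' = 0 ∧ h a a' = 1 ∧ h a c = 0 ∧ h a' c = 0 := by
  obtain ⟨τ, hτ, hf⟩ := CfsgLib.Aschbacher.exists_unitary_hermForm (n := 3) hF
  obtain ⟨p, s, hp, hs, hpc, hsc, hsp, -⟩ := SLThree.exists_orth hf hc
  obtain ⟨t, ht⟩ := exists_norm_eq hF (c := -(h p p) / h s s)
    (by rw [map_div₀, map_neg, h_swap hF, h_swap hF])
  rw [eq_div_iff hs] at ht
  have hps : h p s = 0 := (h_eq_zero_swap hF).1 hsp
  set a := p + t • s with had
  have ha : h a a = 0 := by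
    rw [had, h_add_left, h_add_right hF, h_add_right hF, h_smul_left, h_smul_left, h_smul_right hF,
      h_smul_right hF, hps, hsp]
    linear_combination ht
  have hpa : h p a = h p p := by
    rw [had, h_add_right hF, h_smul_right hF, hps, mul_zero, add_zero]
  obtain ⟨k, hk1, hk2⟩ := exists_add_iso (hF := hF) (y := p) ha (by rw [hpa]; exact hp)
  have hac : h a c = 0 := by rw [had, h_add_left, h_smul_left, hpc, hsc, mul_zero, add_zero]
  have e : h a (p + k • a) = h p p := by rw [← h_swap hF, hk2, hpa, h_swap hF]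
  refine ⟨a, (σ (h p p))⁻¹ • (p + k • a), ha, ?_, ?_, hac, ?_⟩
  · rw [h_smul_left, h_smul_right hF, hk1, mul_zero, mul_zero]
  · rw [h_smul_right hF, e, map_inv₀, frob_frob hF, inv_mul_cancel₀ hp]
  · rw [h_smul_left, h_add_left, h_smul_left, hpc, hac, mul_zero, add_zero, mul_zero]

end CfsgLib.MaxSub.SU3Max
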