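/-
Stabilisers of isotropic and of non-degenerate points are maximal in `SU_3`.
-/
import Cfsg.Agent.Lib.MaxSub.SU3Max.Basic

set_option autoImplicit false
set_option maxHeartbeats 400000
set_option linter.unusedSectionVars false

namespace CfsgLib.MaxSub.SU3Max

open Matrix Module Cfsg Cfsg.Geo CfsgLib.UnitaryTransvection
open CfsgLib.Aschbacher (perp IsRefl isRefl_of_unitary)

variable {F : Type*} [Field F] [Fintype F] {q : ℕ}

local notation "V" => Fin 3 → F
local notation "h" => Cfsg.hermForm 3 F q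
local notation "Mn" => Matrix (Fin 3) (Fin 3) F
local notation "G" => Cfsg.GU 3 F q ⊓ specialLinear (Fin 3) F

variable {W : Submodule F (Fin 3 → F)}

/-- Stabilisers of isotropic points are maximal in `SU_3`. -/
theorem su3_singular_maximal (hq : 3 ≤ q) (hFq : Fintype.card F = q ^ 2) (hW0 : W ≠ ⊥)
    (hW : IsTotallySingularFor h W) : IsMaximalIn G (subspaceStabilizer W ⊓ G) := by
  obtain ⟨τ, -, hf⟩ := CfsgLib.Aschbacher.exists_unitary_hermForm (n := 3) hFq
  have hr := isRefl_of_unitary hf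
  set P := perp hr.sesq W with hP
  have hWP : W ≤ P := fun x hx y hy => hW x hx y hy
  obtain ⟨w₀, hw₀, hw₀0⟩ := Submodule.exists_mem_ne_zero_of_ne_bot hW0
  have hW1 : W ≠ ⊤ := by
    rintro rfl
    exact hw₀0 (h_nondeg hFq fun y => hW w₀ hw₀ y Submodule.mem_top)
  refine isMaximalIn_of (CfsgLib.Aschbacher.not_SU_le_subspaceStabilizer hFq le_rfl hW0 hW1) fun K hKG hHK g hg hgW => ?_
  refine top_of_ctr hFq hq ?_
  have hPS : ∀ v ∈ P, h v v = 0 → Ctr hFq K v := fun v hv hvv u c hc hu => hHK ⟨mem_stab_of_maps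
    fun x hx => by
      rw [hu, tmat_mulVec, hr.zero_iff.1 (hv x hx), mul_zero, zero_smul, add_zero]; exact hx,
    fun a b => by
      show h ((u : Mn) *ᵥ a) ((u : Mn) *ᵥ b) = h a b
      rw [hu]
      exact tmat_isometry hFq (show Good hFq v c by rw [Good, hvv, mul_zero, add_zero, hc]) a b,
    Units.ext (by
      show (u : Mn).det = 1
      rw [hu, det_tmat, hvv, mul_zero, add_zero])⟩
  obtain ⟨x₀, hx₀P, hx₀i, hx₀⟩ : ∃ x₀, x₀ ∉ P ∧ h x₀ x₀ = 0 ∧ Ctr hFq K x₀ := by
    obtain ⟨w, hw, hgw⟩ := exists_moved hgW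
    set x := (g : Mn) *ᵥ w with hx
    have hxi : h x x = 0 := by rw [hx, G_isometry (hKG hg), hW w hw w hw]
    by_cases hxP : x ∈ P
    · have hPP : perp hr.sesq P = W := by
        refine (Submodule.eq_of_le_of_finrank_eq (hr.le_perp_perp W) ?_).symm
        have h1 := hr.finrank_perp W
        have h2 := hr.finrank_perp (perp hr.sesq W)
        change finrank F W = finrank F (perp hr.sesq (perp hr.sesq W))
        omega
      obtain ⟨p, hp, hxp⟩ : ∃ p ∈ P, h x p ≠ 0 := by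
        by_contra hc
        push Not at hc
        exact hgw (hPP ▸ hc)
      have hpx : h p x ≠ 0 := fun e => hxp (hr.zero_iff.1 e)
      obtain ⟨k, hk1, hk2⟩ := exists_add_iso (hF := hFq) hxi hpx
      obtain ⟨f, hf1, hf2, hf3⟩ :=
        UnitarySimple.avoid hFq (fun e => hgw (by rw [e]; exact W.zero_mem)) hxi hw₀0
      refine ⟨f, fun hfP => hf3 (hfP w₀ hw₀), hf1, ?_⟩
      have hgi : ∀ a b, h (((g⁻¹ : GL (Fin 3) F) : Mn) *ᵥ a) (((g⁻¹ : GL (Fin 3) F) : Mn) *ᵥ b) = h a b :=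
        G_isometry (hKG (inv_mem hg))
      have hgwe : ((g⁻¹ : GL (Fin 3) F) : Mn) *ᵥ x = w := by
        rw [hx, Matrix.mulVec_mulVec, Units.inv_mul, Matrix.one_mulVec]
      have h1 := CfsgLib.MaxSub.trans_singular (hF := hFq) hW hHK hw
        (y := ((g⁻¹ : GL (Fin 3) F) : Mn) *ᵥ (p + k • x)) (z := ((g⁻¹ : GL (Fin 3) F) : Mn) *ᵥ f)
        (by rw [hgi]; exact hk1) (by rw [← hgwe, hgi, hk2]; exact hpx)
        (by rw [hgi]; exact hf1) (by rw [← hgwe, hgi]; exact hf2)
        ((hPS _ (P.add_mem hp (P.smul_mem _ hxP)) hk1).conj (inv_mem hg) (hKG (inv_mem hg)))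
      have h2 := h1.conj hg (hKG hg)
      rwa [Matrix.mulVec_mulVec, Units.mul_inv, Matrix.one_mulVec] at h2
    · exact ⟨x, hxP, hxi, (hPS w (hWP hw) (hW w hw w hw)).conj hg (hKG hg)⟩
  intro z hz
  by_cases hzP : z ∈ P
  · exact hPS z hzP hz
  obtain ⟨a, ha, hxa⟩ : ∃ a ∈ W, h x₀ a ≠ 0 := by
    by_contra hc
    push Not at hc
    exact hx₀P hc
  obtain ⟨a', ha', hza⟩ : ∃ a' ∈ W, h z a' ≠ 0 := by
    by_contra hc
    push Not at hc
    exact hzP hc
  obtain ⟨f, hf1, hf2, hf3⟩ := UnitarySimple.avoid hFq (e := a) (z := a')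
    (fun e => hxa (by rw [e]; exact hr.sesq.zero_right _)) (hW a ha a ha)
    (fun e => hza (by rw [e]; exact hr.sesq.zero_right _))
  exact CfsgLib.MaxSub.trans_singular hW hHK ha' hf1 hf3 hz hza
    (CfsgLib.MaxSub.trans_singular hW hHK ha hx₀i hxa hf1 hf2 hx₀)

/-- A subspace of dimension one is the span of its non-zero vectors. -/
theorem eq_span_of_finrank_one {c : V} (hW : finrank F W = 1) (hc : c ∈ W) (hc0 : c ≠ 0) :
    W = Submodule.span F {c} :=
  (Submodule.eq_of_le_of_finrank_eq ((Submodule.span_singleton_le_iff_mem _ _).2 hc)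
    (by rw [finrank_span_singleton hc0, hW])).symm

/-- Transvections with centre perpendicular to `c` fix the point `c`. -/
theorem ctr_perp {hF : Fintype.card F = q ^ 2} {K : Subgroup (GL (Fin 3) F)} {c : V}
    (hHK : subspaceStabilizer (Submodule.span F {c}) ⊓ G ≤ K) {v : V} (hv : h v v = 0)
    (hvc : h c v = 0) : Ctr hF K v := fun u k hk hu => by
  obtain ⟨u', hu'G, hu'⟩ := exists_tv hF hv hk
  obtain rfl : u = u' := Units.ext (hu.trans hu'.symm)
  refine hHK ⟨mem_stab_of_maps fun x hx => ?_, hu'G⟩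
  obtain ⟨a, rfl⟩ := Submodule.mem_span_singleton.1 hx
  rw [hu, tmat_mulVec, h_smul_left, hvc, mul_zero, mul_zero, zero_smul, add_zero]
  exact hx

/-- Stabilisers of non-degenerate points are maximal in `SU_3`. -/
theorem su3_nondegenerate_maximal (hq : 3 ≤ q) (hF : Fintype.card F = q ^ 2) (hW0 : W ≠ ⊥)
    (hW : IsNondegenerateOn h W) (hdim : 2 * finrank F W < 3) :
    IsMaximalIn G (subspaceStabilizer W ⊓ G) := by
  obtain ⟨c, hcW, hc0⟩ := Submodule.exists_mem_ne_zero_of_ne_bot hW0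
  have h1 : finrank F W = 1 := by
    haveI : Nontrivial W := ⟨⟨c, hcW⟩, 0, fun e => hc0 (congrArg Subtype.val e)⟩
    have : 0 < finrank F W := Module.finrank_pos
    omega
  obtain rfl := eq_span_of_finrank_one h1 hcW hc0
  have hc : h c c ≠ 0 := by
    obtain ⟨⟨x, hx, hxc⟩, -⟩ := hW c hcW hc0
    obtain ⟨a, rfl⟩ := Submodule.mem_span_singleton.1 hx
    exact fun e => hxc (by rw [h_smul_left, e, mul_zero])
  have hW1 : Submodule.span F {c} ≠ (⊤ : Submodule F V) := fun e => by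
    rw [e, finrank_top, Module.finrank_fin_fun] at h1; omega
  refine isMaximalIn_of (CfsgLib.Aschbacher.not_SU_le_subspaceStabilizer hF le_rfl hW0 hW1)
    fun K hKG hHK g hg hgW => ?_
  obtain ⟨a, a', ha, ha', haa, hac, ha'c⟩ := exists_pair (hF := hF) hc
  have hA := ctr_perp (hF := hF) hHK ha ((h_eq_zero_swap hF).1 hac)
  have hA' := ctr_perp (hF := hF) hHK ha' ((h_eq_zero_swap hF).1 ha'c)
  have haa0 : h a a' ≠ 0 := by rw [haa]; exact one_ne_zero
  have hgi := G_isometry (hKG hg)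
  by_cases h1 : h ((g : Mn) *ᵥ a) c = 0
  · by_cases h2 : h ((g : Mn) *ᵥ a') c = 0
    · exfalso
      obtain ⟨w, hw, hgw⟩ := exists_moved hgW
      obtain ⟨k, rfl⟩ := Submodule.mem_span_singleton.1 hw
      refine hgw ?_
      have e := expand (hF := hF) (c := c) (a := (g : Mn) *ᵥ a) (a' := (g : Mn) *ᵥ a') hc
        (by rw [hgi, ha]) (by rw [hgi, ha']) (by rw [hgi, haa]) h1 h2 ((g : Mn) *ᵥ (k • c))
      have hca : h c a = 0 := (h_eq_zero_swap hF).1 hac
      have hca' : h c a' = 0 := (h_eq_zero_swap hF).1 ha'c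
      rw [hgi _ a, hgi _ a', h_smul_left k c a, h_smul_left k c a', hca, hca', mul_zero, zero_smul,
        zero_smul, add_zero, add_zero] at e
      rw [e]
      exact Submodule.smul_mem _ _ (Submodule.mem_span_singleton_self c)
    · exact top_of_line hq hc ha ha' haa0 hac ha'c hA hA' (by rw [hgi, ha']) h2
        (hA'.conj hg (hKG hg))
  · exact top_of_line hq hc ha ha' haa0 hac ha'c hA hA' (by rw [hgi, ha]) h1 (hA.conj hg (hKG hg))

end CfsgLib.MaxSub.SU3Max
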